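import Cfsg.Agent.Lib.SmallLinear.TwoEigen
import Cfsg.Agent.Lib.Components.Fitting
import Cfsg.Prelude.Def_Solvable
import Mathlib.LinearAlgebra.Eigenspace.Pi
import Mathlib.Algebra.DirectSum.LinearMap
import Mathlib.GroupTheory.GroupAction.Quotient
import Mathlib.GroupTheory.Abelianization.Defs
import Mathlib.Data.Nat.Choose.Factorization

/-!
# Irreducible linear groups of degree less than `2p`

If such a group, of degree other than `p`, has a nonabelian Sylow `p`-subgroup, then it is monomial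
and `p²` does not divide the index of `O_p`.
-/

set_option autoImplicit false
set_option linter.style.haveILetI false
set_option linter.unusedSectionVars false

namespace Cfsg.Agent.Lib.SmallLinear

open Module Cfsg.Agent.Lib.Characters

variable {G : Type*} [Group G] [Finite G] {V : Type*} [AddCommGroup V] [Module ℂ V]
  [FiniteDimensional ℂ V] {p : ℕ} [hp : Fact p.Prime]

/-- A central element of the derived subgroup of `P` has eigenvalues other than one with
multiplicities divisible by `p`. -/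
theorem prime_dvd_finrank (ρ : Representation ℂ G V) {P : Subgroup G} {z : G} (hzP : z ∈ P)
    (hzc : ∀ h ∈ P, h * z = z * h) (hzd : (⟨z, hzP⟩ : P) ∈ commutator P) (hz : z ^ p = 1)
    {U : Submodule ℂ V} (hU : ∀ h ∈ P, ∀ v ∈ U, ρ h v ∈ U) {c : ℂ} (hc : c ≠ 1) :
    p ∣ finrank ℂ (U ⊓ Module.End.eigenspace (ρ z) c : Submodule ℂ V) := by
  classical
  set X := (U ⊓ Module.End.eigenspace (ρ z) c : Submodule ℂ V) with hX
  rcases eq_or_ne X ⊥ with h | h
  · rw [h, finrank_bot]; exact dvd_zero _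
  have hXP : ∀ h : P, ∀ v ∈ X, (ρ.comp P.subtype : Representation ℂ P V) h v ∈ X := by
    intro h v hv
    refine ⟨hU _ h.2 v hv.1, ?_⟩
    have h2 := hv.2
    rw [SetLike.mem_coe, Module.End.mem_eigenspace_iff] at h2 ⊢
    show ρ z (ρ h v) = c • ρ h v
    rw [← Module.End.mul_apply, ← map_mul, ← hzc _ h.2, map_mul, Module.End.mul_apply, h2, map_smul]
  let π := restrictRep (ρ.comp P.subtype : Representation ℂ P V) X hXP
  let f : P →* ℂˣ := (Units.map (LinearMap.det : Module.End ℂ X →* ℂ)).comp π.toHomUnits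
  have hf : f ⟨z, hzP⟩ = 1 := Abelianization.commutator_subset_ker f hzd
  have hπ : π ⟨z, hzP⟩ = c • 1 := LinearMap.ext fun v => Subtype.ext (by
    show ρ z v = c • (v : V)
    exact Module.End.mem_eigenspace_iff.mp v.2.2)
  have hdet : LinearMap.det (π ⟨z, hzP⟩) = 1 := congrArg Units.val hf
  rw [hπ, LinearMap.det_smul, map_one, mul_one] at hdet
  obtain ⟨v, hv, hv0⟩ := Submodule.exists_mem_ne_zero_of_ne_bot h
  have hcp : c ^ p = 1 := by
    have h2 : ∀ k : ℕ, (ρ z ^ k) v = c ^ k • v := by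
      intro k
      induction k with
      | zero => simp
      | succ k ih =>
        rw [pow_succ', Module.End.mul_apply, ih, map_smul, Module.End.mem_eigenspace_iff.mp hv.2,
          smul_smul, ← pow_succ]
    have h3 := h2 p
    rw [← map_pow, hz, map_one, Module.End.one_apply] at h3
    by_contra hne
    have : (c ^ p - 1) • v = 0 := by rw [sub_smul, one_smul, ← h3, sub_self]
    exact hv0 ((smul_eq_zero.mp this).resolve_left (sub_ne_zero.mpr hne))
  rw [← orderOf_eq_prime hcp hc]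
  exact orderOf_dvd_of_pow_eq_one hdet

/-- Such an element is trivial on invariant subspaces of dimension less than `p`. -/
theorem fix_of_small (ρ : Representation ℂ G V) {P : Subgroup G} {z : G} (hzP : z ∈ P)
    (hzc : ∀ h ∈ P, h * z = z * h) (hzd : (⟨z, hzP⟩ : P) ∈ commutator P) (hz : z ^ p = 1)
    {U : Submodule ℂ V} (hU : ∀ h ∈ P, ∀ v ∈ U, ρ h v ∈ U) (hsmall : finrank ℂ U < p) :
    ∀ v ∈ U, ρ z v = v := by
  classical
  have hf : ((ρ z).restrict (hU z hzP)) ^ p = 1 := by
    refine LinearMap.ext fun v => Subtype.ext ?_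
    rw [Module.End.pow_restrict, LinearMap.restrict_apply]
    show (ρ z ^ p) v = v
    rw [← map_pow, hz, map_one]; rfl
  obtain ⟨ι, _, b, μ, hb, -⟩ := exists_eigenbasis ((ρ z).restrict (hU z hzP)) hp.out.ne_zero hf
  have hμ : ∀ i, μ i = 1 := by
    intro i
    by_contra hne
    have hmem : ((b i : U) : V) ∈ (U ⊓ Module.End.eigenspace (ρ z) (μ i) : Submodule ℂ V) :=
      ⟨(b i).2, Module.End.mem_eigenspace_iff.mpr (congrArg Subtype.val (hb i))⟩
    have hpos : 0 < finrank ℂ (U ⊓ Module.End.eigenspace (ρ z) (μ i) : Submodule ℂ V) := by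
      refine Submodule.one_le_finrank_iff.mpr fun he => b.ne_zero i ?_
      rw [he, Submodule.mem_bot] at hmem
      exact Subtype.ext hmem
    have := Nat.le_of_dvd hpos (prime_dvd_finrank ρ hzP hzc hzd hz hU hne)
    have := Submodule.finrank_mono (inf_le_left : U ⊓ Module.End.eigenspace (ρ z) (μ i) ≤ U)
    omega
  have h1 : (ρ z).restrict (hU z hzP) = LinearMap.id := b.ext fun i => by rw [hb, hμ, one_smul]; rfl
  intro v hv
  exact congrArg Subtype.val (LinearMap.congr_fun h1 ⟨v, hv⟩)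

/-- The element has exactly the eigenvalues `1` and one other, of multiplicity `p`. -/
theorem two_eigen (ρ : Representation ℂ G V) (hinj : Function.Injective ρ) {P : Subgroup G} {z : G}
    (hzP : z ∈ P) (hzc : ∀ h ∈ P, h * z = z * h) (hzd : (⟨z, hzP⟩ : P) ∈ commutator P)
    (hz : orderOf z = p) (hn2 : finrank ℂ V < 2 * p) (hnp : finrank ℂ V ≠ p) :
    (∃ ω : ℂ, (ρ z - (1 : ℂ) • 1) * (ρ z - ω • 1) = 0) ∧ ∃ v, v ≠ 0 ∧ ρ z v = v := by
  classical
  have hzp : z ^ p = 1 := hz ▸ pow_orderOf_eq_one z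
  have hz1 : z ≠ 1 := fun h => by rw [h, orderOf_one] at hz; exact hp.out.one_lt.ne hz
  obtain ⟨ι, _, b, μ, hb, -⟩ := exists_eigenbasis (ρ z) hp.out.ne_zero (by rw [← map_pow, hzp, map_one])
  have hdvd : ∀ c : ℂ, c ≠ 1 → p ∣ finrank ℂ (Module.End.eigenspace (ρ z) c) := by
    intro c hc
    have := prime_dvd_finrank ρ hzP hzc hzd hzp (U := ⊤) (fun _ _ _ _ => Submodule.mem_top) hc
    rwa [top_inf_eq] at this
  have hle : ∀ i, μ i ≠ 1 → p ≤ finrank ℂ (Module.End.eigenspace (ρ z) (μ i)) := by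
    intro i hi
    refine Nat.le_of_dvd (Submodule.one_le_finrank_iff.mpr fun he => b.ne_zero i ?_) (hdvd _ hi)
    have h := Module.End.mem_eigenspace_iff.mpr (hb i)
    rwa [he, Submodule.mem_bot] at h
  obtain ⟨i₀, hi₀⟩ : ∃ i, μ i ≠ 1 := by
    by_contra! h
    refine hz1 (hinj ?_)
    rw [map_one]
    exact b.ext fun i => by rw [hb, h, one_smul]; rfl
  have hall : ∀ i, μ i = 1 ∨ μ i = μ i₀ := by
    intro i
    by_contra! h
    have hdis := Module.End.disjoint_genEigenspace (ρ z) h.2 1 1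
    have h1 := Submodule.finrank_add_finrank_le_of_disjoint hdis
    have h2 := hle i h.1
    have h3 := hle i₀ hi₀
    simp only [Module.End.eigenspace] at h2 h3
    omega
  refine ⟨⟨μ i₀, b.ext fun i => ?_⟩, ?_⟩
  · simp only [Module.End.mul_apply, LinearMap.sub_apply, LinearMap.smul_apply, Module.End.one_apply,
      map_sub, map_smul, hb, LinearMap.zero_apply]
    rcases hall i with h | h <;> rw [h] <;> module
  · by_contra! hno
    have h1 : ∀ i, μ i = μ i₀ := fun i => (hall i).resolve_left fun h =>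
      hno (b i) (b.ne_zero i) (by rw [hb, h, one_smul])
    have htop : Module.End.eigenspace (ρ z) (μ i₀) = ⊤ := by
      rw [eq_top_iff, ← b.span_eq, Submodule.span_le]
      rintro _ ⟨i, rfl⟩
      exact Module.End.mem_eigenspace_iff.mpr (by rw [hb, h1])
    have h2 := hdvd _ hi₀
    rw [htop, finrank_top] at h2
    obtain ⟨k, hk⟩ := h2
    rcases k with _ | _ | k
    · have h3 := hle i₀ hi₀
      rw [htop, finrank_top] at h3
      have := hp.out.pos
      omega
    · omega
    · rw [hk] at hn2; nlinarith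

theorem factorial_not_sq_dvd {n : ℕ} (hn : n < 2 * p) : ¬ p ^ 2 ∣ n.factorial := by
  intro h
  have h2 := (hp.out.pow_dvd_iff_le_factorization n.factorial_ne_zero).1 h
  have hlog : Nat.log p n < 2 := Nat.log_lt_of_lt_pow' (by norm_num) (by
    have := hp.out.two_le
    nlinarith)
  rw [Nat.factorization_factorial hp.out hlog] at h2
  simp at h2
  have : n / p < 2 := (Nat.div_lt_iff_lt_mul hp.out.pos).mpr (by omega)
  omega

/-- The main theorem. -/
theorem not_sq_dvd_index (ρ : Representation ℂ G V) (hinj : Function.Injective ρ)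
    (hirr : ∀ U : Submodule ℂ V, (∀ g, ∀ v ∈ U, ρ g v ∈ U) → U = ⊥ ∨ U = ⊤) (h7 : 7 ≤ p)
    (hn2 : finrank ℂ V < 2 * p) (hnp : finrank ℂ V ≠ p) {P : Subgroup G} (hP : IsPGroup p P)
    {z : G} (hzP : z ∈ P) (hzc : ∀ h ∈ P, h * z = z * h) (hzd : (⟨z, hzP⟩ : P) ∈ commutator P)
    (hz : orderOf z = p) : ¬ p ^ 2 ∣ (Cfsg.pCore p G).index := by
  classical
  have hzp : z ^ p = 1 := hz ▸ pow_orderOf_eq_one z
  have hz1 : z ≠ 1 := fun h => by rw [h, orderOf_one] at hz; exact hp.out.one_lt.ne hz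
  obtain ⟨⟨ω, hquad⟩, v₁, hv₁, hfix⟩ := two_eigen ρ hinj hzP hzc hzd hz hn2 hnp
  -- the abelian normal subgroup
  set A := Subgroup.normalClosure ({z} : Set G) with hA
  have hgen : ∀ x ∈ Group.conjugatesOfSet ({z} : Set G), ∀ y ∈ Group.conjugatesOfSet ({z} : Set G),
      x * y = y * x := by
    intro x hx y hy
    rw [Group.mem_conjugatesOfSet_iff] at hx hy
    obtain ⟨a, ha, hxa⟩ := hx
    obtain ⟨a', ha', hya⟩ := hy
    rw [Set.mem_singleton_iff] at ha ha'
    rw [ha] at hxa
    rw [ha'] at hya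
    obtain ⟨g, rfl⟩ := isConj_iff.mp hxa
    obtain ⟨g', rfl⟩ := isConj_iff.mp hya
    have hq : ∀ g : G, (ρ (g * z * g⁻¹) - (1 : ℂ) • 1) * (ρ (g * z * g⁻¹) - ω • 1) = 0 := by
      intro g
      have hid : ρ g * ρ g⁻¹ = 1 := by rw [← map_mul, mul_inv_cancel, map_one]
      have hid' : ρ g⁻¹ * ρ g = 1 := by rw [← map_mul, inv_mul_cancel, map_one]
      have e : ∀ c : ℂ, ρ (g * z * g⁻¹) - c • 1 = ρ g * (ρ z - c • 1) * ρ g⁻¹ := by
        intro c
        rw [mul_sub, sub_mul, mul_smul_comm, smul_mul_assoc, mul_one, hid, map_mul, map_mul]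
      rw [e, e]
      calc ρ g * (ρ z - (1 : ℂ) • 1) * ρ g⁻¹ * (ρ g * (ρ z - ω • 1) * ρ g⁻¹)
          = ρ g * ((ρ z - (1 : ℂ) • 1) * (ρ g⁻¹ * ρ g) * (ρ z - ω • 1)) * ρ g⁻¹ := by
            simp only [mul_assoc]
        _ = 0 := by rw [hid', mul_one, hquad, mul_zero, zero_mul]
    exact commute_of_two_eigen ρ hinj h7 (by rw [conj_pow, hzp]; group) (by rw [conj_pow, hzp]; group)
      (hq g) (hq g')
  have hAc : ∀ a ∈ A, ∀ b ∈ A, a * b = b * a := by
    have h1 : A ≤ Subgroup.centralizer (Group.conjugatesOfSet ({z} : Set G)) :=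
      (Subgroup.closure_le _).mpr fun x hx => Subgroup.mem_centralizer_iff.mpr fun y hy => hgen y hy x hx
    intro a ha b hb
    have h2 : A ≤ Subgroup.centralizer (A : Set G) := (Subgroup.closure_le _).mpr fun x hx =>
      Subgroup.mem_centralizer_iff.mpr fun y hy =>
        (Subgroup.mem_centralizer_iff.mp (h1 hy) x hx).symm
    exact Subgroup.mem_centralizer_iff.mp (h2 hb) a ha
  have hzA : z ∈ A := Subgroup.subset_normalClosure rfl
  -- weight spaces
  let Wt : (A → ℂ) → Submodule ℂ V := fun μ => ⨅ a : A, Module.End.eigenspace (ρ a) (μ a)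
  have hmemWt : ∀ μ v, v ∈ Wt μ ↔ ∀ a : A, ρ a v = μ a • v := fun μ v => by
    simp only [Wt, Submodule.mem_iInf, Module.End.mem_eigenspace_iff]
  have hexW : ∃ d, ∃ W : Submodule ℂ V, finrank ℂ W = d ∧ W ≠ ⊥ ∧ ∀ a : A, ∀ v ∈ W, ρ a v ∈ W :=
    ⟨_, ⊤, rfl, fun h => hv₁ ((Submodule.mem_bot ℂ).mp (h ▸ Submodule.mem_top : v₁ ∈ (⊥ : Submodule ℂ V))),
      fun _ _ _ => Submodule.mem_top⟩
  obtain ⟨W, hWd, hW0, hWinv⟩ := Nat.find_spec hexW
  haveI : Nontrivial W := Submodule.nontrivial_iff_ne_bot.mpr hW0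
  have hscalar : ∀ a : A, ∃ c : ℂ, ∀ v ∈ W, ρ a v = c • v := by
    intro a
    obtain ⟨c, hc⟩ := Module.End.exists_eigenvalue ((ρ a).restrict (hWinv a))
    obtain ⟨v, hv⟩ := hc.exists_hasEigenvector
    refine ⟨c, ?_⟩
    set W' : Submodule ℂ V := W ⊓ Module.End.eigenspace (ρ a) c with hW'
    have hne : W' ≠ ⊥ := fun h => hv.2 (Subtype.ext ((Submodule.mem_bot ℂ).mp (h ▸
      (show (v : V) ∈ W' from ⟨v.2, Module.End.mem_eigenspace_iff.mpr (congrArg Subtype.val hv.apply_eq_smul)⟩))))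
    have hinv : ∀ b : A, ∀ w ∈ W', ρ b w ∈ W' := by
      rintro b w ⟨h1, h2⟩
      refine ⟨hWinv b w h1, ?_⟩
      rw [SetLike.mem_coe, Module.End.mem_eigenspace_iff] at h2 ⊢
      rw [← Module.End.mul_apply, ← map_mul, hAc _ a.2 _ b.2, map_mul, Module.End.mul_apply, h2, map_smul]
    have hmin := Nat.find_min' hexW ⟨W', rfl, hne, hinv⟩
    have heq : W' = W := Submodule.eq_of_le_of_finrank_le inf_le_left (hWd.le.trans hmin)
    intro w hw
    rw [← heq] at hw
    exact Module.End.mem_eigenspace_iff.mp hw.2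
  choose μ₀ hμ₀ using hscalar
  have hμ₀ne : Wt μ₀ ≠ ⊥ := fun h => hW0 (eq_bot_iff.mpr fun v hv =>
    h ▸ (hmemWt μ₀ v).mpr fun a => hμ₀ a v hv)
  -- conjugation of weights
  let cj : G → (A → ℂ) → (A → ℂ) := fun g μ a =>
    μ ⟨g⁻¹ * a * g, (Subgroup.normalClosure_normal.mem_comm_iff).mp (by
      rw [← mul_assoc, mul_inv_cancel, one_mul]; exact a.2)⟩
  have hcj_mul : ∀ g h μ, cj (g * h) μ = cj g (cj h μ) := fun g h μ => by
    funext a
    exact congrArg μ (Subtype.ext (show (g * h)⁻¹ * (a : G) * (g * h) = h⁻¹ * (g⁻¹ * a * g) * h by group))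
  have hcj_one : ∀ μ, cj 1 μ = μ := fun μ => by
    funext a
    exact congrArg μ (Subtype.ext (show (1 : G)⁻¹ * (a : G) * 1 = a by group))
  have hmove : ∀ g μ, ∀ v ∈ Wt μ, ρ g v ∈ Wt (cj g μ) := by
    intro g μ v hv
    rw [hmemWt] at hv ⊢
    intro a
    rw [← Module.End.mul_apply, ← map_mul, show (a : G) * g = g * (g⁻¹ * a * g) by group, map_mul,
      Module.End.mul_apply]
    show ρ g (ρ (g⁻¹ * a * g) v) = _
    rw [hv ⟨g⁻¹ * a * g, _⟩, map_smul]
  have hmap : ∀ g μ, (Wt μ).map (ρ g) = Wt (cj g μ) := by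
    intro g μ
    refine le_antisymm (Submodule.map_le_iff_le_comap.mpr fun v hv => hmove g μ v hv) fun v hv => ?_
    refine Submodule.mem_map.mpr ⟨ρ g⁻¹ v, ?_, ?_⟩
    · have := hmove g⁻¹ _ v hv
      rwa [← hcj_mul, inv_mul_cancel, hcj_one] at this
    · rw [← Module.End.mul_apply, ← map_mul, mul_inv_cancel, map_one]; rfl
  let X := Set.range fun g => cj g μ₀
  haveI : Finite X := (Set.finite_range _).to_subtype
  haveI : Fintype X := Fintype.ofFinite X
  letI : MulAction G X :=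
    { smul := fun g x => ⟨cj g x.1, by obtain ⟨h, hh⟩ := x.2; exact ⟨g * h, by rw [← hh]; exact hcj_mul g h μ₀⟩⟩
      one_smul := fun x => Subtype.ext (hcj_one x.1)
      mul_smul := fun g h x => Subtype.ext (hcj_mul g h x.1) }
  set x₀ : X := ⟨μ₀, 1, hcj_one μ₀⟩ with hx₀
  have hstop : (⨆ x : X, Wt x.1) = ⊤ := by
    refine (hirr _ fun g v hv => ?_).resolve_left fun h => hμ₀ne (eq_bot_iff.mpr (h ▸ le_iSup (fun x : X => Wt x.1) x₀))
    have : (⨆ x : X, Wt x.1).map (ρ g) ≤ ⨆ x : X, Wt x.1 := by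
      rw [Submodule.map_iSup]
      exact iSup_le fun x => (hmap g x.1).le.trans (le_iSup (fun x : X => Wt x.1) (g • x))
    exact this (Submodule.mem_map_of_mem hv)
  have hind : iSupIndep fun x : X => Wt x.1 := by
    have h1 := Module.End.independent_iInf_maxGenEigenspace_of_forall_mapsTo (fun a : A => ρ a)
      (fun i j φ => Module.End.mapsTo_maxGenEigenspace_of_comm
        (show Commute (ρ j) (ρ i) by rw [Commute, SemiconjBy, ← map_mul, ← map_mul, hAc _ j.2 _ i.2]) φ)
    refine (h1.comp Subtype.val_injective).mono fun x => ?_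
    exact iInf_mono fun a => (Module.End.eigenspace_def (f := ρ a) (μ := x.1 a)).le.trans
      (Module.End.eigenspace_le_maxGenEigenspace.trans' (le_of_eq Module.End.eigenspace_def.symm))
  have hdimx : ∀ x : X, finrank ℂ (Wt x.1) = finrank ℂ (Wt μ₀) := by
    rintro ⟨_, g, rfl⟩
    show finrank ℂ (Wt (cj g μ₀)) = _
    rw [← hmap g μ₀]
    refine (LinearEquiv.finrank_eq (Submodule.equivMapOfInjective _ (fun a b hab => ?_) _)).symm
    have := congrArg (ρ g⁻¹) hab
    rwa [← Module.End.mul_apply, ← Module.End.mul_apply, ← map_mul, inv_mul_cancel, map_one] at this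
  have hn : finrank ℂ V = Nat.card X * finrank ℂ (Wt μ₀) := by
    have hint := DirectSum.isInternal_submodule_of_iSupIndep_of_iSup_eq_top hind hstop
    have h2 := Module.finrank_eq_card_basis (hint.collectedBasis fun x => Module.finBasis ℂ (Wt x.1))
    rw [h2, Fintype.card_sigma]
    simp [hdimx, Nat.card_eq_fintype_card]
  have hpos : 0 < finrank ℂ (Wt μ₀) := Submodule.one_le_finrank_iff.mpr hμ₀ne
  have hker : ∀ k : G, (∀ x : X, k • x = x) → ∀ x : X, ∀ v ∈ Wt x.1, ρ k v ∈ Wt x.1 := by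
    intro k hk x v hv
    have := hmove k x.1 v hv
    rwa [show cj k x.1 = x.1 from congrArg Subtype.val (hk x)] at this
  have hcard2 : 2 ≤ Nat.card X := by
    by_contra! hlt
    haveI : Subsingleton X := Finite.card_le_one_iff_subsingleton.mp (by omega)
    have htop : Wt μ₀ = ⊤ := by
      rw [← hstop]
      exact le_antisymm (le_iSup (fun x : X => Wt x.1) x₀)
        (iSup_le fun x => by rw [Subsingleton.elim x x₀])
    have hzs : ∀ v, ρ z v = μ₀ ⟨z, hzA⟩ • v := fun v => (hmemWt μ₀ v).mp (htop ▸ Submodule.mem_top) ⟨z, hzA⟩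
    have hc1 : μ₀ ⟨z, hzA⟩ = 1 := by
      by_contra hne
      have : (μ₀ ⟨z, hzA⟩ - 1) • v₁ = 0 := by rw [sub_smul, one_smul, ← hzs v₁, hfix, sub_self]
      exact hv₁ ((smul_eq_zero.mp this).resolve_left (sub_ne_zero.mpr hne))
    exact hz1 (hinj (by rw [map_one]; exact LinearMap.ext fun v => by rw [hzs, hc1, one_smul]; rfl))
  have hcardp : p ≤ Nat.card X := by
    by_contra! hlt
    have hfixX : ∀ h ∈ P, ∀ x : X, h • x = x := by
      intro h hh x
      obtain ⟨k, hk⟩ := hP.card_orbit x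
      have hle : Nat.card (MulAction.orbit P x) ≤ Nat.card X :=
        Nat.card_le_card_of_injective Subtype.val Subtype.val_injective
      rcases Nat.eq_zero_or_pos k with rfl | hk0
      · rw [pow_zero] at hk
        haveI : Subsingleton (MulAction.orbit P x) := (Nat.card_eq_one_iff_unique.mp hk).1
        exact congrArg Subtype.val (Subsingleton.elim (α := MulAction.orbit P x)
          ⟨h • x, ⟨⟨h, hh⟩, rfl⟩⟩ ⟨x, MulAction.mem_orbit_self x⟩)
      · have := Nat.le_self_pow hk0.ne' p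
        omega
    have hsmall : finrank ℂ (Wt μ₀) < p := by
      have : 2 * finrank ℂ (Wt μ₀) ≤ Nat.card X * finrank ℂ (Wt μ₀) :=
        Nat.mul_le_mul_right _ hcard2
      omega
    refine hz1 (hinj ?_)
    rw [map_one]
    refine LinearMap.ext fun v => ?_
    have hall : (⨆ x : X, Wt x.1) ≤ LinearMap.ker (ρ z - 1) := iSup_le fun x v hv => by
      rw [LinearMap.mem_ker, LinearMap.sub_apply, sub_eq_zero]
      exact fix_of_small ρ hzP hzc hzd hzp (U := Wt x.1)
        (fun h hh w hw => hker h (hfixX h hh) x w hw) (by rw [hdimx]; exact hsmall) v hv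
    have := hall (hstop ▸ Submodule.mem_top : v ∈ ⨆ x : X, Wt x.1)
    rwa [LinearMap.mem_ker, LinearMap.sub_apply, sub_eq_zero] at this
  have he1 : finrank ℂ (Wt μ₀) = 1 := by
    by_contra hne
    have : p * 2 ≤ Nat.card X * finrank ℂ (Wt μ₀) := Nat.mul_le_mul hcardp (by omega)
    omega
  set K := (MulAction.toPermHom G X).ker with hK
  have hKX : ∀ k ∈ K, ∀ x : X, k • x = x := fun k hk x =>
    Equiv.Perm.congr_fun (MonoidHom.mem_ker.mp hk) x
  have hKc : ∀ a ∈ K, ∀ b ∈ K, a * b = b * a := by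
    intro a ha b hb
    refine hinj (LinearMap.ext fun v => ?_)
    rw [map_mul, map_mul]
    have hall : (⨆ x : X, Wt x.1) ≤ LinearMap.ker (ρ a * ρ b - ρ b * ρ a) := iSup_le fun x v hv => by
      rcases eq_or_ne v 0 with rfl | hv0
      · simp
      have hone := (finrank_eq_one_iff_of_nonzero' (⟨v, hv⟩ : Wt x.1)
        (fun h => hv0 (congrArg Subtype.val h))).mp ((hdimx x).trans he1)
      obtain ⟨r, hr⟩ := hone ⟨ρ a v, hker a (hKX a ha) x v hv⟩
      obtain ⟨s, hs⟩ := hone ⟨ρ b v, hker b (hKX b hb) x v hv⟩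
      have hr' : ρ a v = r • v := (congrArg Subtype.val hr).symm
      have hs' : ρ b v = s • v := (congrArg Subtype.val hs).symm
      rw [LinearMap.mem_ker, LinearMap.sub_apply, Module.End.mul_apply, Module.End.mul_apply, hs', hr',
        map_smul, map_smul, hr', hs', smul_comm, sub_self]
    have := hall (hstop ▸ Submodule.mem_top : v ∈ ⨆ x : X, Wt x.1)
    rwa [LinearMap.mem_ker, LinearMap.sub_apply, sub_eq_zero] at this
  have hKi : K.index ∣ (Nat.card X).factorial := by
    rw [hK, Subgroup.index_ker, ← Nat.card_perm]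
    exact Subgroup.card_subgroup_dvd_card _
  obtain ⟨Q⟩ : Nonempty (Sylow p K) := inferInstance
  haveI hQn : (Q : Subgroup K).Normal := ⟨fun n hn g => by
    have : g * n * g⁻¹ = n := by
      rw [show g * n = n * g from Subtype.ext (hKc _ g.2 _ n.2), mul_inv_cancel_right]
    rwa [this]⟩
  haveI : (Q : Subgroup K).Characteristic := Q.characteristic_of_normal hQn
  haveI : K.Normal := MonoidHom.normal_ker _
  have hMn : ((Q : Subgroup K).map K.subtype).Normal := inferInstance
  have hMp : (Q : Subgroup K).map K.subtype ≤ Cfsg.pCore p G :=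
    Components.le_pCore hMn (Q.2.map _)
  intro hdvd
  have h1 := hdvd.trans (Subgroup.index_dvd_of_le hMp)
  rw [Subgroup.index_map_subtype] at h1
  have hcop : Nat.Coprime (p ^ 2) (Q : Subgroup K).index :=
    Nat.Coprime.pow_left _ (hp.out.coprime_iff_not_dvd.mpr Q.not_dvd_index)
  exact factorial_not_sq_dvd (p := p) (n := Nat.card X)
    (lt_of_le_of_lt (by rw [hn, he1, mul_one]) hn2) ((hcop.dvd_of_dvd_mul_left h1).trans hKi)

end Cfsg.Agent.Lib.SmallLinear
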