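import Cfsg.Agent.Lib.Characters.BlichfeldtReduce
import Cfsg.Agent.Lib.Characters.Eigen
import Cfsg.Agent.Lib.Characters.Kernel
import Cfsg.Agent.Lib.CharMisc.ResidualCount
import Cfsg.Agent.S4503
import Mathlib.RepresentationTheory.Maschke

/-!
# Two elements with two eigenvalues each

In a finite complex linear group two elements of prime order `p ≥ 7`, each with a minimal polynomial
of degree at most two, commute: every irreducible constituent of the group they generate has
dimension at most two, and a linear group of degree at most two has a normal abelian Sylow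
`p`-subgroup.
-/

set_option autoImplicit false
set_option linter.style.haveILetI false

namespace Cfsg.Agent.Lib.SmallLinear

open Module Cfsg.Agent.Lib.Characters

/-- The restriction of a representation to an invariant subspace. -/
noncomputable def restrictRep {G V : Type*} [Group G] [AddCommGroup V] [Module ℂ V]
    (ρ : Representation ℂ G V) (W : Submodule ℂ V) (hW : ∀ g, ∀ v ∈ W, ρ g v ∈ W) :
    Representation ℂ G W where
  toFun g := (ρ g).restrict (hW g)
  map_one' := by ext v; simp
  map_mul' a b := by ext v; simp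

theorem restrictRep_apply {G V : Type*} [Group G] [AddCommGroup V] [Module ℂ V]
    (ρ : Representation ℂ G V) (W : Submodule ℂ V) (hW : ∀ g, ∀ v ∈ W, ρ g v ∈ W) (g : G) (v : W) :
    ((restrictRep ρ W hW g v : W) : V) = ρ g v := rfl

/-- Two elements of order dividing `p ≥ 7` of a finite linear group of degree at most two commute. -/
theorem commute_of_degree_le_two {H : Type*} [Group H] [Finite H] {d : ℕ} (hd : d ≤ 2)
    (θ : Representation ℂ H (Fin d → ℂ)) {p : ℕ} [hp : Fact p.Prime] (h7 : 7 ≤ p) {y z : H}
    (hy : y ^ p = 1) (hz : z ^ p = 1) : θ y * θ z = θ z * θ y := by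
  classical
  let f : H →* (Module.End ℂ (Fin d → ℂ))ˣ := θ.toHomUnits
  let τ : Representation ℂ f.range (Fin d → ℂ) :=
    (Units.coeHom (Module.End ℂ (Fin d → ℂ))).comp f.range.subtype
  have hτ : Function.Injective τ := fun a b h => Subtype.ext (Units.ext h)
  haveI : Finite f.range := Finite.of_surjective f.rangeRestrict f.rangeRestrict_surjective
  have hd' : d + 1 < p := by omega
  have hyp : BlichfeldtHyp f.range d p := by
    refine Or.inr ⟨hd', fun K hK Q => ?_⟩
    by_cases hdiv : p ∣ Nat.card K
    swap
    · have : (Q : Subgroup K) = ⊥ := by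
        obtain ⟨k, hk⟩ := IsPGroup.iff_card.mp Q.2
        rcases Nat.eq_zero_or_pos k with rfl | hk0
        · exact Subgroup.card_eq_one.mp (by rw [hk, pow_zero])
        · exact absurd ((hk ▸ dvd_pow_self p hk0.ne' : p ∣ Nat.card (Q : Subgroup K)).trans
            (Subgroup.card_subgroup_dvd_card _)) hdiv
      rw [this]; infer_instance
    by_contra hQn
    let π : Representation ℂ K (Fin d → ℂ) := τ.comp K.subtype
    have hπ : Function.Injective π := hτ.comp K.subtype_injective
    have hnn : ∀ M : Subgroup K, M.Normal → Nat.card M ≠ p := by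
      intro M hM hMc
      haveI := hM
      let S : Sylow p K := Sylow.ofCard M (by
        rw [hMc]
        conv_lhs => rw [← pow_one p]
        congr 1
        refine le_antisymm ((hp.out.pow_dvd_iff_le_factorization Nat.card_pos.ne').1 (by simpa using hdiv)) ?_
        by_contra hlt
        exact hK (((hp.out.pow_dvd_iff_le_factorization Nat.card_pos.ne').2 (by omega)).trans dvd_rfl))
      haveI := Sylow.unique_of_normal S (show (S : Subgroup K).Normal from hM)
      have hQS : Q = S := Subsingleton.elim _ _
      exact hQn (hQS ▸ hM)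
    have h := Cfsg.Agent.S4503.result p hp.out hdiv hK hnn π.character (isCharacter_of_rep π)
      (fun g hg => hπ (by
        rw [π.char_one, char_eq_finrank_iff] at hg
        rw [hg, map_one]; rfl))
    rw [Cfsg.Agent.Lib.CharMisc.charDegree_of_apply_one
      (by rw [π.char_one, Module.finrank_fin_fun] : π.character 1 = (d : ℂ))] at h
    omega
  obtain ⟨P⟩ : Nonempty (Sylow p f.range) := inferInstance
  have hPn : (P : Subgroup f.range).Normal :=
    normal_sylow_of_small_degree rfl d τ hτ hyp P
  haveI := Sylow.unique_of_normal P hPn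
  have hmem : ∀ x : H, x ^ p = 1 → (⟨f x, x, rfl⟩ : f.range) ∈ (P : Subgroup f.range) := by
    intro x hx
    set x' : f.range := ⟨f x, x, rfl⟩
    have hx' : x' ^ p = 1 := Subtype.ext (by
      show (f x) ^ p = 1
      rw [← map_pow, hx, map_one])
    have hpg : IsPGroup p (Subgroup.zpowers x') := by
      refine IsPGroup.iff_card.mpr ?_
      rw [Nat.card_zpowers]
      rcases (Nat.dvd_prime hp.out).mp (orderOf_dvd_of_pow_eq_one hx') with h | h
      · exact ⟨0, by rw [h, pow_zero]⟩
      · exact ⟨1, by rw [h, pow_one]⟩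
    obtain ⟨S, hS⟩ := hpg.exists_le_sylow
    rw [Subsingleton.elim S P] at hS
    exact hS (Subgroup.mem_zpowers x')
  have hc := Cfsg.Agent.S0185.result (τ.comp (P : Subgroup f.range).subtype)
    (hτ.comp (P : Subgroup f.range).subtype_injective) (fun q hq hqd => by
      obtain ⟨k, hk⟩ := IsPGroup.iff_card.mp P.2
      rw [hk] at hqd
      rw [(Nat.prime_dvd_prime_iff_eq hq hp.out).mp (hq.dvd_of_dvd_pow hqd), Module.finrank_fin_fun]
      omega) ⟨_, hmem y hy⟩ ⟨_, hmem z hz⟩
  have h2 : f y * f z = f z * f y :=
    congrArg (fun a : (P : Subgroup f.range) => ((a : f.range) : (Module.End ℂ (Fin d → ℂ))ˣ)) hc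
  exact congrArg Units.val h2

/-- An irreducible space for two operators with quadratic minimal polynomials is at most a plane. -/
theorem finrank_le_two {W : Type*} [AddCommGroup W] [Module ℂ W] [FiniteDimensional ℂ W]
    (a b : Module.End ℂ W) {α β : ℂ}
    (ha : (a - α • 1) * (a - β • 1) = 0) (hb : (b - α • 1) * (b - β • 1) = 0)
    (hirr : ∀ U : Submodule ℂ W, (∀ v ∈ U, a v ∈ U) → (∀ v ∈ U, b v ∈ U) → U = ⊥ ∨ U = ⊤) :
    finrank ℂ W ≤ 2 := by
  classical
  rcases subsingleton_or_nontrivial W with hW | hW
  · rw [Module.finrank_zero_of_subsingleton]; omega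
  set s : ℂ := (α + β) / 2 with hs
  set A : Module.End ℂ W := a - s • 1 with hA
  set B : Module.End ℂ W := b - s • 1 with hB
  set γ : ℂ := s ^ 2 - α * β with hγ
  have sq : ∀ c : Module.End ℂ W, (c - α • 1) * (c - β • 1) = 0 →
      (c - s • 1) * (c - s • 1) = γ • 1 := by
    intro c hc
    have h1 : (c - s • 1) * (c - s • 1) - (c - α • 1) * (c - β • 1) = γ • 1 := by
      simp only [sub_mul, mul_sub, smul_mul_assoc, mul_smul_comm, one_mul, mul_one, hγ, hs]
      module
    rw [← h1, hc, sub_zero]
  have hAA : A * A = γ • 1 := sq a ha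
  have hBB : B * B = γ • 1 := sq b hb
  set C : Module.End ℂ W := A * B + B * A with hC
  have hCA : A * C = C * A := by
    rw [hC, mul_add, add_mul, ← mul_assoc A A B, hAA, ← mul_assoc A B A, mul_assoc B A A, hAA]
    simp only [smul_mul_assoc, mul_smul_comm, one_mul, mul_one]
    abel
  have hCB : B * C = C * B := by
    rw [hC, mul_add, add_mul, ← mul_assoc B B A, hBB, ← mul_assoc B A B, mul_assoc A B B, hBB]
    simp only [smul_mul_assoc, mul_smul_comm, one_mul, mul_one]
    abel
  have hainv : ∀ (U : Submodule ℂ W), (∀ v ∈ U, A v ∈ U) → ∀ v ∈ U, a v ∈ U := by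
    intro U hU v hv
    have : a v = A v + s • v := by simp [hA]
    rw [this]
    exact U.add_mem (hU v hv) (U.smul_mem _ hv)
  have hbinv : ∀ (U : Submodule ℂ W), (∀ v ∈ U, B v ∈ U) → ∀ v ∈ U, b v ∈ U := by
    intro U hU v hv
    have : b v = B v + s • v := by simp [hB]
    rw [this]
    exact U.add_mem (hU v hv) (U.smul_mem _ hv)
  obtain ⟨κ, hκ⟩ := Module.End.exists_eigenvalue C
  have hCtop : C.eigenspace κ = ⊤ := by
    refine (hirr _ (hainv _ fun v hv => ?_) (hbinv _ fun v hv => ?_)).resolve_left hκ
    · rw [Module.End.mem_eigenspace_iff] at hv ⊢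
      rw [← Module.End.mul_apply, ← hCA, Module.End.mul_apply, hv, map_smul]
    · rw [Module.End.mem_eigenspace_iff] at hv ⊢
      rw [← Module.End.mul_apply, ← hCB, Module.End.mul_apply, hv, map_smul]
  obtain ⟨lam, hlam⟩ := Module.End.exists_eigenvalue A
  obtain ⟨v, hv⟩ := hlam.exists_hasEigenvector
  have hAv : A v = lam • v := hv.apply_eq_smul
  have hCv : C v = κ • v := Module.End.mem_eigenspace_iff.mp (hCtop ▸ Submodule.mem_top)
  have hABv : A (B v) = κ • v - lam • B v := by
    have : A (B v) + B (A v) = κ • v := by rw [← hCv, hC]; rfl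
    rw [hAv, map_smul] at this
    rw [← this]; abel
  have hBBv : B (B v) = γ • v := by
    rw [← Module.End.mul_apply, hBB]; rfl
  set U : Submodule ℂ W := Submodule.span ℂ (({v, B v} : Finset W) : Set W) with hU
  have hvU : v ∈ U := Submodule.subset_span (by simp)
  have hBvU : B v ∈ U := Submodule.subset_span (by simp)
  have hgen : ∀ T : Module.End ℂ W, T v ∈ U → T (B v) ∈ U → ∀ w ∈ U, T w ∈ U := by
    intro T h1 h2 w hw
    have hle : U ≤ U.comap T := by
      rw [hU, Submodule.span_le]
      intro x hx
      rw [Finset.coe_pair] at hx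
      rcases hx with rfl | hx
      · exact h1
      · rw [Set.mem_singleton_iff.mp hx]; exact h2
    exact hle hw
  have hUA : ∀ w ∈ U, A w ∈ U := hgen A (hAv ▸ U.smul_mem _ hvU)
    (hABv ▸ U.sub_mem (U.smul_mem _ hvU) (U.smul_mem _ hBvU))
  have hUB : ∀ w ∈ U, B w ∈ U := hgen B hBvU (hBBv ▸ U.smul_mem _ hvU)
  rcases hirr U (hainv U hUA) (hbinv U hUB) with h | h
  · exact absurd ((Submodule.mem_bot ℂ).mp (h ▸ hvU)) hv.2
  · rw [← finrank_top ℂ W, ← h]
    exact (finrank_span_finset_le_card _).trans Finset.card_le_two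

/-- Two elements of prime order `p ≥ 7` with quadratic minimal polynomials commute. -/
theorem commute_of_two_eigen {G : Type*} [Group G] [Finite G] {V : Type*} [AddCommGroup V]
    [Module ℂ V] [FiniteDimensional ℂ V] (ρ : Representation ℂ G V) (hinj : Function.Injective ρ)
    {p : ℕ} [hp : Fact p.Prime] (h7 : 7 ≤ p) {y z : G} (hy : y ^ p = 1) (hz : z ^ p = 1)
    {α β : ℂ} (hqy : (ρ y - α • 1) * (ρ y - β • 1) = 0)
    (hqz : (ρ z - α • 1) * (ρ z - β • 1) = 0) : y * z = z * y := by
  classical
  set H := Subgroup.closure ({y, z} : Set G) with hH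
  have hyH : y ∈ H := Subgroup.subset_closure (by simp)
  have hzH : z ∈ H := Subgroup.subset_closure (by simp)
  let σ : Representation ℂ H V := ρ.comp H.subtype
  -- the largest invariant subspace on which `y` and `z` commute
  let S : Subrepresentation σ :=
    { toSubmodule := ⨅ h : H, LinearMap.ker ((ρ y * ρ z - ρ z * ρ y) * σ h)
      apply_mem_toSubmodule := fun g v hv => by
        simp only [Submodule.mem_iInf, LinearMap.mem_ker] at hv ⊢
        intro h
        have := hv (h * g)
        rw [map_mul σ, ← mul_assoc] at this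
        exact this }
  have hSc : ∀ v ∈ S, ρ y (ρ z v) = ρ z (ρ y v) := by
    intro v hv
    have h1 : v ∈ S.toSubmodule := hv
    simp only [S, Submodule.mem_iInf, LinearMap.mem_ker] at h1
    have := h1 1
    simpa [sub_eq_zero] using this
  have key : ∀ (d : ℕ) (W : Subrepresentation σ), finrank ℂ W.toSubmodule = d →
      W.toSubmodule ≠ ⊥ → ∃ v ∈ W, v ≠ 0 ∧ v ∈ S := by
    intro d
    induction d using Nat.strong_induction_on with
    | _ d IH =>
    intro W hd hW
    by_cases hsmall : ∀ U : Submodule ℂ W.toSubmodule,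
        (∀ u ∈ U, restrictRep σ _ (fun g v => W.apply_mem_toSubmodule g (v := v)) ⟨y, hyH⟩ u ∈ U) →
        (∀ u ∈ U, restrictRep σ _ (fun g v => W.apply_mem_toSubmodule g (v := v)) ⟨z, hzH⟩ u ∈ U) →
          U = ⊥ ∨ U = ⊤
    · set π := restrictRep σ _ (fun g v => W.apply_mem_toSubmodule g (v := v))
      have hquad : ∀ (g : G) (hg : g ∈ H), (ρ g - α • 1) * (ρ g - β • 1) = 0 →
          (π ⟨g, hg⟩ - α • 1) * (π ⟨g, hg⟩ - β • 1) = 0 := by
        intro g hg h
        refine LinearMap.ext fun v => Subtype.ext ?_
        have := LinearMap.congr_fun h (v : V)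
        simpa [π, σ, restrictRep_apply] using this
      have h2 := finrank_le_two (π ⟨y, hyH⟩) (π ⟨z, hzH⟩) (hquad y hyH hqy) (hquad z hzH hqz) hsmall
      have hc := commute_of_degree_le_two h2 (coordRep π) h7 (y := (⟨y, hyH⟩ : H))
        (z := (⟨z, hzH⟩ : H)) (Subtype.ext hy) (Subtype.ext hz)
      have hc' : ∀ v : W.toSubmodule, π ⟨y, hyH⟩ (π ⟨z, hzH⟩ v) = π ⟨z, hzH⟩ (π ⟨y, hyH⟩ v) := by
        intro v
        have := LinearMap.congr_fun hc ((Module.finBasis ℂ W.toSubmodule).equivFun v)
        simpa [coordRep, transportRep] using this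
      obtain ⟨v, hv, hv0⟩ := Submodule.exists_mem_ne_zero_of_ne_bot hW
      refine ⟨v, hv, hv0, ?_⟩
      show v ∈ S.toSubmodule
      simp only [S, Submodule.mem_iInf, LinearMap.mem_ker]
      intro h
      have hw := congrArg (fun w : W.toSubmodule => (w : V))
        (hc' ⟨σ h v, W.apply_mem_toSubmodule h hv⟩)
      simpa [π, σ, restrictRep_apply, sub_eq_zero] using hw
    · push Not at hsmall
      obtain ⟨U, hUy, hUz, hUb, hUt⟩ := hsmall
      set π := restrictRep σ _ (fun g v => W.apply_mem_toSubmodule g (v := v))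
      have hUinv : ∀ (g : G) (hg : g ∈ H), U.map (π ⟨g, hg⟩) = U := by
        have hbase : ∀ x : H, (∀ u ∈ U, π x u ∈ U) → U.map (π x) = U := by
          intro x hx
          refine Submodule.eq_of_le_of_finrank_eq (Submodule.map_le_iff_le_comap.mpr hx) ?_
          refine (LinearEquiv.finrank_eq (Submodule.equivMapOfInjective _ ?_ U)).symm
          intro a b hab
          have := congrArg (π x⁻¹) hab
          rwa [← Module.End.mul_apply, ← Module.End.mul_apply, ← map_mul, inv_mul_cancel,
            map_one] at this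
        intro g hg
        induction hg using Subgroup.closure_induction with
        | mem x hx =>
          rcases hx with rfl | hx
          · exact hbase _ hUy
          · obtain rfl := Set.mem_singleton_iff.mp hx
            exact hbase _ hUz
        | one =>
          rw [show (⟨1, one_mem _⟩ : H) = 1 from rfl, map_one, Module.End.one_eq_id, Submodule.map_id]
        | mul a b ha hb iha ihb =>
          rw [show (⟨a * b, mul_mem ha hb⟩ : H) = ⟨a, ha⟩ * ⟨b, hb⟩ from rfl, map_mul,
            Module.End.mul_eq_comp, Submodule.map_comp, ihb, iha]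
        | inv a ha iha =>
          conv_lhs => rw [← iha]
          rw [← Submodule.map_comp, ← Module.End.mul_eq_comp, ← map_mul,
            show (⟨a⁻¹, inv_mem ha⟩ : H) * ⟨a, ha⟩ = 1 from Subtype.ext (inv_mul_cancel a),
            map_one, Module.End.one_eq_id, Submodule.map_id]
      let W' : Subrepresentation σ :=
        { toSubmodule := U.map W.toSubmodule.subtype
          apply_mem_toSubmodule := fun g v hv => by
            obtain ⟨u, hu, rfl⟩ := Submodule.mem_map.mp hv
            refine Submodule.mem_map.mpr ⟨π g u, ?_, rfl⟩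
            rw [← hUinv g g.2]
            exact Submodule.mem_map_of_mem hu }
      have hlt : finrank ℂ W'.toSubmodule < d := by
        rw [← hd, ← (Submodule.equivMapOfInjective _ W.toSubmodule.injective_subtype U).finrank_eq]
        exact Submodule.finrank_lt hUt
      obtain ⟨v, hv, hv0, hvS⟩ := IH _ hlt W' rfl (fun h => hUb (
        Submodule.map_injective_of_injective W.toSubmodule.injective_subtype
          (h.trans (Submodule.map_bot _).symm)))
      obtain ⟨u, -, rfl⟩ := Submodule.mem_map.mp (show v ∈ W'.toSubmodule from hv)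
      exact ⟨_, u.2, hv0, hvS⟩
  haveI : NeZero (Nat.card H : ℂ) := ⟨Nat.cast_ne_zero.mpr Nat.card_pos.ne'⟩
  obtain ⟨T, hT⟩ := exists_isCompl S
  have hTbot : T.toSubmodule = ⊥ := by
    by_contra h
    obtain ⟨v, hvT, hv0, hvS⟩ := key _ T rfl h
    have hmem : v ∈ (S ⊓ T).toSubmodule := ⟨hvS, hvT⟩
    rw [hT.1.eq_bot] at hmem
    exact hv0 ((Submodule.mem_bot ℂ).mp hmem)
  have htop : S.toSubmodule = ⊤ := by
    have := congrArg Subrepresentation.toSubmodule hT.2.eq_top
    rw [Subrepresentation.toSubmodule_sup, hTbot, sup_bot_eq] at this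
    exact this
  apply hinj
  refine LinearMap.ext fun v => ?_
  rw [map_mul, map_mul, Module.End.mul_apply, Module.End.mul_apply]
  exact hSc v (show v ∈ S.toSubmodule from htop ▸ Submodule.mem_top)

end Cfsg.Agent.Lib.SmallLinear
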